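import Mathlib

/-!
Simultaneous eigenspaces (weight spaces) of families of endomorphisms; lower bounds for the degrees
of representations.
-/

set_option autoImplicit false

namespace Cfsg.Lib.Sz

open Module

variable {k V ι : Type*} [Field k] [AddCommGroup V] [Module k V]

/-- The simultaneous eigenspace. -/
def wt (f : ι → End k V) (χ : ι → k) : Submodule k V where
  carrier := {v | ∀ i, f i v = χ i • v}
  add_mem' h h' i := by rw [map_add, h i, h' i, smul_add]
  zero_mem' i := by simp
  smul_mem' c v h i := by rw [map_smul, h i, smul_comm]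

theorem mem_wt {f : ι → End k V} {χ : ι → k} {v : V} : v ∈ wt f χ ↔ ∀ i, f i v = χ i • v :=
  Iff.rfl

theorem iSupIndep_wt (f : ι → End k V) {J : Type*} {χ : J → ι → k} (h : Function.Injective χ) :
    iSupIndep fun j => wt f (χ j) := by
  classical
  rw [iSupIndep_iff_finsetSum_eq_zero_imp_eq_zero]
  intro s
  induction s using Finset.induction_on with
  | empty => simp
  | insert a s ha ih =>
    intro v hv h0
    have h1 : ∀ j ∈ s, v j = 0 := fun j hj => by
      obtain ⟨i, hi⟩ := Function.ne_iff.1 (h.ne (ne_of_mem_of_not_mem hj ha))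
      refine (smul_eq_zero_iff_right (sub_ne_zero.2 hi)).1 (ih (fun j => (χ j i - χ a i) • v j)
        (fun j hj => Submodule.smul_mem _ _ (hv j (Finset.mem_insert_of_mem hj))) ?_ j hj)
      have h2 : f i (∑ j ∈ insert a s, v j) - χ a i • ∑ j ∈ insert a s, v j = 0 := by simp [h0]
      rw [map_sum, Finset.smul_sum, ← Finset.sum_sub_distrib, Finset.sum_insert ha,
        hv a (Finset.mem_insert_self _ _) i, sub_self, zero_add] at h2
      rw [← h2]
      exact Finset.sum_congr rfl fun j hj => by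
        rw [hv j (Finset.mem_insert_of_mem hj) i, sub_smul]
    rw [Finset.sum_insert ha, Finset.sum_eq_zero h1, add_zero] at h0
    exact Finset.forall_mem_insert .. |>.2 ⟨h0, h1⟩

variable [FiniteDimensional k V]

theorem card_mul_le_finrank (f : ι → End k V) {J : Type*} [Finite J] {χ : J → ι → k}
    (h : Function.Injective χ) {d : ℕ} (hd : ∀ j, d ≤ finrank k (wt f (χ j))) :
    Nat.card J * d ≤ finrank k V := by
  classical
  have := Fintype.ofFinite J
  have h1 := LinearMap.finrank_le_finrank_of_injective (iSupIndep_wt f h).dfinsupp_lsum_injective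
  refine le_trans ?_ ((finrank_directSum k fun j => wt f (χ j)).symm.trans_le h1)
  rw [Nat.card_eq_fintype_card, ← smul_eq_mul, ← Finset.card_univ]
  exact Finset.card_nsmul_le_sum _ _ _ fun j _ => hd j

theorem card_le_finrank (f : ι → End k V) {J : Type*} [Finite J] {χ : J → ι → k}
    (h : Function.Injective χ) (hd : ∀ j, ∃ v ∈ wt f (χ j), v ≠ 0) : Nat.card J ≤ finrank k V := by
  simpa using card_mul_le_finrank f h (d := 1) fun j => Nat.pos_of_ne_zero fun e =>
    (Submodule.ne_bot_iff _).2 (hd j) (Submodule.finrank_eq_zero.1 e)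

theorem exists_wt [IsAlgClosed k] {f : ι → End k V} (hf : ∀ i j, f i * f j = f j * f i)
    {W : Submodule k V} (hW : W ≠ ⊥) (h : ∀ i, ∀ v ∈ W, f i v ∈ W) :
    ∃ χ, ∃ v ∈ W, v ≠ 0 ∧ v ∈ wt f χ := by
  induction hn : finrank k W using Nat.strong_induction_on generalizing W with
  | _ n ih =>
  have : Nontrivial W := Submodule.nontrivial_iff_ne_bot.2 hW
  choose χ hχ using fun i => End.exists_eigenvalue ((f i).restrict (h i))
  by_cases h1 : ∀ i, W ≤ (f i).eigenspace (χ i)
  · obtain ⟨v, hv, h2⟩ := (Submodule.ne_bot_iff _).1 hW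
    exact ⟨χ, v, hv, h2, fun i => End.mem_eigenspace_iff.1 (h1 i hv)⟩
  push Not at h1
  obtain ⟨i, hi⟩ := h1
  obtain ⟨v, hv⟩ := (hχ i).exists_hasEigenvector
  obtain ⟨ψ, w, h2, h3⟩ := ih _ (W := W ⊓ (f i).eigenspace (χ i)) (hn ▸ Submodule.finrank_lt_finrank_of_lt
    (inf_lt_left.2 hi)) ((Submodule.ne_bot_iff _).2 ⟨v, ⟨v.2, End.mem_eigenspace_iff.2
      (congrArg Subtype.val hv.apply_eq_smul)⟩, fun e => hv.2 (Subtype.ext e)⟩)
    (fun j w hw => ⟨h j w hw.1, End.mem_eigenspace_iff.2 (by
      rw [← End.mul_apply, hf, End.mul_apply, End.mem_eigenspace_iff.1 hw.2, map_smul])⟩) rfl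
  exact ⟨ψ, w, h2.1, h3⟩

theorem exists_wt_ne_one [IsAlgClosed k] {f : ι → End k V} (hf : ∀ i j, f i * f j = f j * f i)
    {i : ι} (h1 : f i ≠ 1) {n : ℕ} (hn : (n : k) ≠ 0) (h : f i ^ n = 1) :
    ∃ χ, χ i ≠ 1 ∧ ∃ v ∈ wt f χ, v ≠ 0 := by
  obtain ⟨χ, _, ⟨w, rfl⟩, h2, h3⟩ := exists_wt hf (W := LinearMap.range (f i - 1))
    (fun e => h1 (sub_eq_zero.1 (LinearMap.range_eq_bot.1 e))) (by
      rintro j _ ⟨v, rfl⟩
      exact ⟨f j v, by simp [← End.mul_apply, hf i j]⟩)
  refine ⟨χ, fun e => h2 ((smul_eq_zero_iff_right hn).1 ?_), _, h3, h2⟩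
  have h4 : ∀ j : ℕ, (f i ^ j) ((f i - 1) w) = (f i - 1) w := fun j => by
    induction j with
    | zero => rfl
    | succ j ih => rw [pow_succ, End.mul_apply, h3 i, e, one_smul, ih]
  have h5 := LinearMap.congr_fun (geom_sum_mul (f i) n) w
  rw [End.mul_apply, LinearMap.sum_apply, Finset.sum_congr rfl fun j _ => h4 j, h, sub_self] at h5
  simpa [Nat.cast_smul_eq_nsmul, smul_sub] using h5

variable {G : Type*} [Group G]

omit [FiniteDimensional k V] in
theorem injective_of_isIrreducible [IsSimpleGroup G] {ρ : Representation k G V}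
    (h : ρ.IsIrreducible) (h2 : 2 ≤ finrank k V) : Function.Injective ρ := by
  refine (MonoidHom.ker_eq_bot_iff ρ).1 (ρ.normal_ker.eq_bot_or_eq_top.resolve_right fun e => ?_)
  have := Module.nontrivial_of_finrank_pos (R := k) (M := V) (by omega)
  obtain ⟨v, hv⟩ := exists_ne (0 : V)
  rcases h.eq_bot_or_eq_top ⟨k ∙ v, fun g w hw => by rwa [show ρ g = 1 from e.ge trivial]⟩ with
    h3 | h3
  · exact hv (Submodule.span_singleton_eq_bot.1 (congrArg Subrepresentation.toSubmodule h3))
  · have h4 : (k ∙ v) = ⊤ := congrArg Subrepresentation.toSubmodule h3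
    have := finrank_span_singleton (K := k) hv
    rw [h4, finrank_top] at this
    omega

omit [FiniteDimensional k V] in
/-- Moving a weight vector. -/
theorem apply_mem_wt (ρ : G →* End k V) {x : ι → G} {χ : ι → k} {v : V}
    (hv : v ∈ wt (fun i => ρ (x i)) χ) {g : G} {s : ι → ι} (h : ∀ i, x i * g = g * x (s i)) :
    ρ g v ∈ wt (fun i => ρ (x i)) fun i => χ (s i) := fun i => by
  rw [← End.mul_apply, ← map_mul, h, map_mul, End.mul_apply, hv, map_smul]

omit [FiniteDimensional k V] in
theorem apply_injective (ρ : G →* End k V) (g : G) : Function.Injective (ρ g) := fun v w h => by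
  simpa [← End.mul_apply, ← map_mul] using congrArg (ρ g⁻¹) h

omit [FiniteDimensional k V] in
/-- A weight is multiplicative. -/
theorem wt_mul (ρ : G →* End k V) {x : ι → G} {χ : ι → k} {v : V}
    (hv : v ∈ wt (fun i => ρ (x i)) χ) (h0 : v ≠ 0) {i j l : ι} (h : x i * x j = x l) :
    χ i * χ j = χ l := by
  have : ρ (x l) v = _ := hv l
  rw [← h, map_mul, End.mul_apply, hv j, map_smul, hv i, smul_smul, mul_comm] at this
  exact smul_left_injective k h0 this

omit [FiniteDimensional k V] in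
theorem wt_ne_zero (ρ : G →* End k V) {x : ι → G} {χ : ι → k} {v : V}
    (hv : v ∈ wt (fun i => ρ (x i)) χ) (h0 : v ≠ 0) (i : ι) : χ i ≠ 0 := fun e =>
  h0 (apply_injective ρ (x i) (by rw [hv i, e, zero_smul, map_zero]))

/-- A non-trivial additive character of a field separates scalars. -/
theorem eq_of_forall_char {K : Type*} [Field K] {χ : K → k} (h : ∀ a b, χ a * χ b = χ (a + b))
    (h0 : ∀ a, χ a ≠ 0) {c : K} (hc : χ c ≠ 1) {s t : K} (e : ∀ a, χ (s * a) = χ (t * a)) :
    s = t := by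
  by_contra hne
  have h1 := h c (t * (c / (s - t)))
  rw [show c + t * (c / (s - t)) = s * (c / (s - t)) by field_simp [sub_ne_zero.2 hne]; ring, e]
    at h1
  exact hc (mul_right_cancel₀ (h0 _) (h1.trans (one_mul _).symm))

end Cfsg.Lib.Sz
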